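import Mathlib

set_option backward.isDefEq.respectTransparency false
set_option backward.isDefEq.respectTransparency.types false
set_option autoImplicit false
set_option linter.style.haveILetI false

universe u

open CategoryTheory Category Limits Opposite

namespace Groth.Agent.LexRefl

variable {C : Type u} [SmallCategory C] (P : ObjectProperty (Cᵒᵖ ⥤ Type u)) [Reflective P.ι]

theorem isIso_map_iff {A B : Cᵒᵖ ⥤ Type u} (f : A ⟶ B) :
    IsIso ((reflector P.ι).map f) ↔ ∀ Z, P Z → Function.Bijective (fun g : B ⟶ Z => f ≫ g) := by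
  rw [← ObjectProperty.isLocal_iff_isIso_map (reflectorAdjunction P.ι) f]
  constructor
  · intro h Z hZ; exact h Z ⟨⟨Z, hZ⟩, rfl⟩
  · rintro h _ ⟨Z, rfl⟩; exact h _ Z.property

theorem isIso_map_iff_isSheafFor {X : C} (S : Sieve X) :
    IsIso ((reflector P.ι).map S.functorInclusion) ↔ ∀ Z, P Z → Presieve.IsSheafFor Z S.arrows := by
  rw [isIso_map_iff]
  refine forall_congr' fun Z => forall_congr' fun _ => ?_
  rw [Presieve.isSheafFor_iff_yonedaSheafCondition, Function.bijective_iff_existsUnique]
  rfl

variable [PreservesFiniteLimits (reflector P.ι)]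

theorem isIso_map_imageSieve {A B : Cᵒᵖ ⥤ Type u} (g : A ⟶ B) (hg : IsIso ((reflector P.ι).map g))
    {X : C} (b : B.obj (op X)) :
    IsIso ((reflector P.ι).map (Presheaf.imageSieve g b).functorInclusion) := by
  let S := Presheaf.imageSieve g b
  let bb : yoneda.obj X ⟶ B := yonedaEquiv.symm b
  let π := pullback.snd g bb
  have hπ : IsIso ((reflector P.ι).map π) :=
    ((IsPullback.of_hasPullback g bb).map (reflector P.ι)).isIso_snd_of_isIso
  have hmem : ∀ (Z : Cᵒᵖ) (p : (pullback g bb).obj Z), S (π.app Z p) := by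
    intro Z p
    refine ⟨(pullback.fst g bb).app Z p, ?_⟩
    have h := congrArg (fun α : pullback g bb ⟶ B => α.app Z p) (pullback.condition : pullback.fst g bb ≫ g = _)
    exact h
  let q : pullback g bb ⟶ S.functor :=
    { app := fun Z => TypeCat.ofHom fun p => (⟨π.app Z p, hmem Z p⟩ : S.functor.obj Z)
      naturality := fun Z W f => by
        refine ConcreteCategory.hom_ext _ _ fun p => ?_
        refine Subtype.ext ?_
        exact NatTrans.naturality_apply π f p }
  have hq : q ≫ S.functorInclusion = π := rfl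
  haveI : Epi q := by
    rw [NatTrans.epi_iff_epi_app]
    intro Z
    rw [epi_iff_surjective]
    rintro ⟨f, t, ht⟩
    let p : yoneda.obj Z.unop ⟶ pullback g bb := pullback.lift (yonedaEquiv.symm t) (yoneda.map f) (by
      apply yonedaEquiv.injective
      rw [yonedaEquiv_comp, Equiv.apply_symm_apply, yonedaEquiv_comp]
      refine ht.trans ?_
      simp [yonedaEquiv, bb, yonedaEquiv])
    refine ⟨yonedaEquiv p, Subtype.ext ?_⟩
    change π.app Z (yonedaEquiv p) = f
    rw [← yonedaEquiv_comp]
    simp [p, π, yonedaEquiv]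
  rw [← hq, Functor.map_comp] at hπ
  haveI := hπ
  haveI : Epi ((reflector P.ι).map q) := inferInstance
  haveI : IsSplitMono ((reflector P.ι).map q) :=
    IsSplitMono.mk' ⟨(reflector P.ι).map S.functorInclusion ≫ inv ((reflector P.ι).map q ≫ (reflector P.ι).map S.functorInclusion), by
      rw [← Category.assoc, IsIso.hom_inv_id]⟩
  haveI := isIso_of_epi_of_isSplitMono ((reflector P.ι).map q)
  exact IsIso.of_isIso_comp_left ((reflector P.ι).map q) _

theorem imageSieve_functorInclusion {X Y : C} (S : Sieve X) (f : Y ⟶ X) :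
    Presheaf.imageSieve S.functorInclusion (U := Y) (show (yoneda.obj X).obj (op Y) from f) = S.pullback f := by
  ext Z h
  constructor
  · rintro ⟨⟨t, ht⟩, rfl⟩
    exact ht
  · intro hh
    exact ⟨⟨h ≫ f, hh⟩, rfl⟩

theorem mem_iff {X : C} (S : Sieve X) :
    S ∈ Sheaf.finestTopology {F | P F} X ↔ IsIso ((reflector P.ι).map S.functorInclusion) := by
  constructor
  · intro h
    rw [isIso_map_iff_isSheafFor]
    intro Z hZ
    exact Sheaf.sheaf_for_finestTopology _ (show Z ∈ {F | P F} from hZ) S h
  · intro h
    apply Sheaf.mem_finestTopology_of_forall_isSheafFor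
    intro Z hZ Y f
    have := isIso_map_imageSieve P _ h (X := Y) (show (yoneda.obj X).obj (op Y) from f)
    rw [imageSieve_functorInclusion] at this
    exact (isIso_map_iff_isSheafFor P _).1 this Z hZ

theorem isIso_unit (F : Cᵒᵖ ⥤ Type u) (hF : Presieve.IsSheaf (Sheaf.finestTopology {F | P F}) F) :
    IsIso ((reflectorAdjunction P.ι).unit.app F) := by
  let J := Sheaf.finestTopology {F | P F}
  let G : Cᵒᵖ ⥤ Type u := P.ι.obj ((reflector P.ι).obj F)
  let η : F ⟶ G := (reflectorAdjunction P.ι).unit.app F
  have hη : IsIso ((reflector P.ι).map η) := by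
    refine (isIso_map_iff P η).2 fun Z hZ => ?_
    exact ObjectProperty.isLocal_adj_unit_app (reflectorAdjunction P.ι) F Z ⟨⟨Z, hZ⟩, rfl⟩
  have hs : Presheaf.IsLocallySurjective J η := ⟨fun {U} s => (mem_iff P _).2 (isIso_map_imageSieve P η hη s)⟩
  have hi : Presheaf.IsLocallyInjective J η := ⟨fun {U} x y h => by
    let Δ := pullback.diagonal η
    have hΔ : IsIso ((reflector P.ι).map Δ) := by
      have hk := (IsPullback.of_hasPullback η η).map (reflector P.ι)
      haveI : IsIso ((reflector P.ι).map (pullback.fst η η)) := hk.isIso_fst_of_isIso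
      have h1 : (reflector P.ι).map Δ ≫ (reflector P.ι).map (pullback.fst η η) = 𝟙 _ := by
        rw [← Functor.map_comp, pullback.diagonal_fst, CategoryTheory.Functor.map_id]
      exact IsIso.of_isIso_fac_right h1
    let k : yoneda.obj U.unop ⟶ pullback η η := pullback.lift (yonedaEquiv.symm x) (yonedaEquiv.symm y) (by
      apply yonedaEquiv.injective
      rw [yonedaEquiv_comp, Equiv.apply_symm_apply, yonedaEquiv_comp, Equiv.apply_symm_apply]
      exact h)
    refine J.superset_covering ?_ ((mem_iff P _).2 (isIso_map_imageSieve P Δ hΔ (yonedaEquiv k)))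
    rintro V i ⟨t, ht⟩
    have h1 := congrArg ((pullback.fst η η).app (op V)) ht
    have h2 := congrArg ((pullback.snd η η).app (op V)) ht
    rw [← NatTrans.comp_app_apply, pullback.diagonal_fst, NatTrans.naturality_apply, ← yonedaEquiv_comp,
      pullback.lift_fst, Equiv.apply_symm_apply] at h1
    rw [← NatTrans.comp_app_apply, pullback.diagonal_snd, NatTrans.naturality_apply, ← yonedaEquiv_comp,
      pullback.lift_snd, Equiv.apply_symm_apply] at h2
    exact h1.symm.trans h2⟩
  have hW : J.W η := (J.W_iff_isLocallyBijective η).2 ⟨hi, hs⟩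
  refine (ObjectProperty.isLocal_iff_isIso (Presheaf.IsSheaf J) η ((isSheaf_iff_isSheaf_of_type J F).2 hF) ?_).1 hW
  exact (isSheaf_iff_isSheaf_of_type J G).2
    (Sheaf.sheaf_for_finestTopology _ (show G ∈ {F | P F} from ((reflector P.ι).obj F).property))

end Groth.Agent.LexRefl
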